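import Cfsg.Agent.F42.KDa
import Cfsg.Agent.F42.Pr
import Cfsg.Agent.F42.Weyl
import Cfsg.Agent.H42.SylIn

/-! Coordinates on `Kv a (ee 0)` (notes/F42.md, "KDx"). -/

set_option autoImplicit false

namespace Cfsg.Agent.F42

open Subgroup H49 Matrix

namespace KDx

/-! ### The diagonal torus of the model -/

/-- the torus of the model -/
def cv (u : V4) : S6 := cm 0 ^ (u 1).val * cm 1 ^ (u 2).val * cm 2 ^ (u 3).val

theorem cm3 (i : Fin 3) : cm i ^ 3 = 1 :=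
  cd_inj (by simp only [cm, xm, ym, cd_mul, cd_pow, cd_tv, cd_one]; revert i; decide +kernel)

theorem cm_comm (i j : Fin 3) : Commute (cm i) (cm j) :=
  comm_iff.2 (by simp only [cm, xm, ym, cd_mul, cd_tv]; revert i j; decide +kernel)

theorem xm_cm (i j : Fin 3) : xm i * cm j * (xm i)⁻¹ = if i = j then (cm j)⁻¹ else cm j :=
  cd_inj (by
    rw [apply_ite cd]
    simp only [cm, xm, ym, cd_mul, cd_inv, cd_tv]; revert i j; decide +kernel)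

theorem pow_val_add {H : Type*} [Group H] {c : H} (h : c ^ 3 = 1) (i j : ZMod 3) :
    c ^ (i + j).val = c ^ i.val * c ^ j.val := by
  rw [ZMod.val_add, ← pow_add]
  conv_rhs => rw [← Nat.mod_add_div (i.val + j.val) 3, pow_add, pow_mul, h, one_pow, mul_one]

theorem mul6 {H : Type*} [Group H] {x y z x' y' z' : H} (h1 : Commute y x') (h2 : Commute z x') (h3 : Commute z y') :
    x * x' * (y * y') * (z * z') = x * y * z * (x' * y' * z') := by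
  simp only [mul_assoc]
  rw [← mul_assoc z x', h2.eq, mul_assoc, ← mul_assoc y x', h1.eq, mul_assoc, ← mul_assoc z y', h3.eq, mul_assoc]

theorem cv_add (u v : V4) : cv (u + v) = cv u * cv v := by
  simp only [cv, Pi.add_apply, pow_val_add (cm3 _)]
  exact mul6 ((cm_comm _ _).pow_pow _ _) ((cm_comm _ _).pow_pow _ _) ((cm_comm _ _).pow_pow _ _)

theorem cv_W (u : V4) : cv u ∈ Wm :=
  Wm.mul_mem (Wm.mul_mem (Wm.pow_mem (cm_W 0) _) (Wm.pow_mem (cm_W 1) _)) (Wm.pow_mem (cm_W 2) _)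

theorem cv_ee (i : Fin 3) : cv (ee i.succ) = cm i := by
  have : (1 : ZMod 3).val = 1 := rfl
  fin_cases i <;> simp [cv, ee, this]

/-- the number of fixed vectors -/
def fx (m : ℕ) : ℕ := ((Finset.range 64).filter fun n => ap m n = n).card

theorem fx_conj (g k : S6) : fx (cd (k * g * k⁻¹)) = fx (cd g) := by
  have e : ∀ x : S6, ∀ n < 64, act x⁻¹ (act x n) = n := fun x n hn => by
    rw [← act_mul, inv_mul_cancel, act, H27.sp_one_mulVec, enc_vc n hn]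
  refine Finset.card_nbij' (act k⁻¹) (act k) ?_ ?_ ?_ ?_
  · intro n hn
    simp only [Finset.coe_filter, Finset.mem_range, Set.mem_ofPred_eq] at hn ⊢
    refine ⟨act_lt _ _, ?_⟩
    rw [← act_eq _ hn.1, act_mul, act_mul] at hn
    rw [← act_eq _ (act_lt _ _)]
    conv_rhs => rw [← hn.2, e _ _ (act_lt _ _)]
  · intro n hn
    simp only [Finset.coe_filter, Finset.mem_range, Set.mem_ofPred_eq] at hn ⊢
    refine ⟨act_lt _ _, ?_⟩
    rw [← act_eq _ hn.1] at hn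
    rw [← act_eq _ (act_lt _ _), act_mul, act_mul, e _ _ hn.1, hn.2]
  · intro n hn
    simp only [Finset.coe_filter, Finset.mem_range, Set.mem_ofPred_eq] at hn
    simpa using e k⁻¹ n hn.1
  · intro n hn
    simp only [Finset.coe_filter, Finset.mem_range, Set.mem_ofPred_eq] at hn
    exact e k n hn.1

/-- the expected number of fixed vectors -/
def fF (u : V4) : ℕ := if u = 0 then 64 else if u ⬝ᵥ u = 1 then 16 else if u ⬝ᵥ u = -1 then 4 else 1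

theorem fx_cv (u : V4) (h : u 0 = 0) : fx (cd (cv u)) = fF u := by
  simp only [cv, cm, xm, ym, cd_mul, cd_pow, cd_tv]; revert u; decide +kernel

theorem fF_eq {u v : V4} (hu : u ≠ 0) (h : fF u = fF v) : u ⬝ᵥ u = v ⬝ᵥ v ∧ v ≠ 0 := by
  unfold fF at h
  rcases bas_cases (u ⬝ᵥ u) with e | e | e <;> rcases bas_cases (v ⬝ᵥ v) with e' | e' | e' <;>
    by_cases hv : v = 0 <;> simp only [hu, hv, e, e', if_true, if_false, ne_eq, not_false_eq_true] at h ⊢ <;> revert h <;> decide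

theorem cv_eq_one {u : V4} (h0 : u 0 = 0) (h : cv u = 1) : u = 0 := by
  by_contra hu
  have h1 : cv 0 = 1 := by simp [cv]
  exact (fF_eq hu (by rw [← fx_cv u h0, ← fx_cv 0 rfl, h, h1])).2 rfl

/-! ### Linear algebra over `F₃` -/

/-- representatives -/
def rep (n : ZMod 3) : V4 := if n = 1 then ![0, 1, 0, 0] else if n = -1 then ![0, 1, 1, 0] else ![0, 1, 1, 1]

/-- the reflections -/
def rl : List V4 := [![0, 1, 0, 0], ![0, 0, 1, 0], ![0, 0, 0, 1], ![0, 1, 1, 0], ![0, 1, -1, 0], ![0, 1, 0, 1],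
  ![0, 1, 0, -1], ![0, 0, 1, 1], ![0, 0, 1, -1]]

theorem rl_spec : ∀ w ∈ rl, w 0 = 0 ∧ w ≠ 0 ∧ w ⬝ᵥ w ≠ 0 ∧ ee 0 ⬝ᵥ w = 0 := by decide +kernel

theorem to_rep : ∀ u : V4, u 0 = 0 → u ≠ 0 → ∃ w ∈ rl, ∃ w' ∈ rl, sv w (sv w' u) = rep (u ⬝ᵥ u) := by
  decide +kernel

/-- a quadratic form -/
def qq (n1 n2 n3 g12 g13 g23 : ZMod 3) (u : V4) : ZMod 3 :=
  n1 * u 1 * u 1 + n2 * u 2 * u 2 + n3 * u 3 * u 3 + 2 * (g12 * u 1 * u 2 + g13 * u 1 * u 3 + g23 * u 2 * u 3)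

set_option synthInstance.maxSize 2048 in
theorem gram : ∀ n1 n2 n3 g12 g13 g23 : ZMod 3, (∀ x ∈ ![0, 1, 1, 1] :: rl, ∀ y ∈ rl,
    qq n1 n2 n3 g12 g13 g23 x = qq n1 n2 n3 g12 g13 g23 y → x ⬝ᵥ x = y ⬝ᵥ y) →
    g12 = 0 ∧ g13 = 0 ∧ g23 = 0 ∧ n2 = n1 ∧ n3 = n1 ∧ (n1 = 1 ∨ n1 = -1) := by decide +kernel

theorem no_neg : ∀ x : V4, x 0 = 0 → x ⬝ᵥ x = -1 → ∀ y : V4, y 0 = 0 → y ⬝ᵥ y = -1 → x ⬝ᵥ y = 0 →
    ∀ z : V4, z 0 = 0 → z ⬝ᵥ z = -1 → x ⬝ᵥ z = 0 → y ⬝ᵥ z ≠ 0 := by decide +kernel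

theorem iso_of {θ : M4} (h0 : θ *ᵥ ee 0 = ee 0) (h1 : ∀ u : V4, u 0 = 0 → (θ *ᵥ u) 0 = 0)
    (h : ∀ u v : V4, u 0 = 0 → v 0 = 0 → u ≠ 0 → v ≠ 0 → (θ *ᵥ u) ⬝ᵥ (θ *ᵥ u) = (θ *ᵥ v) ⬝ᵥ (θ *ᵥ v) →
      u ⬝ᵥ u = v ⬝ᵥ v) : θᵀ * θ = 1 := by
  obtain ⟨M, hM⟩ : ∃ M, M = θᵀ * θ := ⟨_, rfl⟩
  have e : ∀ i j, M i j = (θ *ᵥ ee i) ⬝ᵥ (θ *ᵥ ee j) := fun i j => by
    rw [bas_dot, ← hM]; simp [ee]
  have sy : ∀ i j, M i j = M j i := fun i j => by rw [e, e, dotProduct_comm]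
  have q : ∀ u : V4, u 0 = 0 → (θ *ᵥ u) ⬝ᵥ (θ *ᵥ u) = qq (M 1 1) (M 2 2) (M 3 3) (M 1 2) (M 1 3) (M 2 3) u :=
    fun u hu => by
      rw [bas_dot, ← hM]
      simp only [qq, dotProduct, mulVec, Fin.sum_univ_four, hu, sy 2 1, sy 3 1, sy 3 2]
      ring
  obtain ⟨g1, g2, g3, n2, n3, n1⟩ := gram (M 1 1) (M 2 2) (M 3 3) (M 1 2) (M 1 3) (M 2 3) fun x hx y hy hq => by
    have hx' : x 0 = 0 ∧ x ≠ 0 := by
      rcases List.mem_cons.1 hx with rfl | hx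
      · decide
      · exact ⟨(rl_spec x hx).1, (rl_spec x hx).2.1⟩
    refine h x y hx'.1 (rl_spec y hy).1 hx'.2 (rl_spec y hy).2.1 ?_
    rw [q x hx'.1, q y (rl_spec y hy).1, hq]
  have z : ∀ j : Fin 4, j ≠ 0 → M 0 j = 0 := fun j hj => by
    rw [e, h0]; simpa [ee] using h1 (ee j) (by simp [ee, hj])
  have m0 : M 0 0 = 1 := by rw [e, h0]; decide
  rcases n1 with n1 | n1
  · rw [← hM]
    ext i j
    fin_cases i <;> fin_cases j <;>
      simp [m0, z, sy 1 0, sy 2 0, sy 3 0, sy 2 1, sy 3 1, sy 3 2, g1, g2, g3, n1, n2, n3]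
  · exact absurd (by rw [← e, g3]) (no_neg _ (h1 (ee 1) rfl) (by rw [← e, n1]) _ (h1 (ee 2) rfl)
      (by rw [← e, n2, n1]) (by rw [← e, g1]) _ (h1 (ee 3) rfl) (by rw [← e, n3, n1]) (by rw [← e, g2]))

/-! ### Coordinates without normalisation -/

variable {G : Type*} [Group G] {a : V4 → G} {L : Subgroup S6} {ψ : S6 → G}

/-- the group-theoretic part of `KD` -/
structure K0 (a : V4 → G) (L : Subgroup S6) (ψ : S6 → G) : Prop where
  alt : L = ⊤ ∨ L = Wm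
  mul : ∀ g ∈ L, ∀ h ∈ L, ψ (g * h) = ψ g * ψ h
  inj : ∀ g ∈ L, ψ g = 1 → g = 1
  mem : ∀ g ∈ L, ψ g ∈ Kv a (ee 0)
  onto : ∀ k ∈ Kv a (ee 0), ∃ g ∈ L, ψ g = k

theorem K0.W_le (k : K0 a L ψ) : Wm ≤ L := by
  rcases k.alt with rfl | rfl
  exacts [le_top, le_rfl]

theorem K0.one (k : K0 a L ψ) : ψ 1 = 1 := by
  have := k.mul 1 L.one_mem 1 L.one_mem
  rw [one_mul] at this
  exact left_eq_mul.1 this

theorem K0.inv (k : K0 a L ψ) {g : S6} (hg : g ∈ L) : ψ g⁻¹ = (ψ g)⁻¹ :=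
  eq_inv_of_mul_eq_one_left (by rw [← k.mul _ (L.inv_mem hg) _ hg, inv_mul_cancel, k.one])

theorem K0.injOn (k : K0 a L ψ) {g h : S6} (hg : g ∈ L) (hh : h ∈ L) (e : ψ g = ψ h) : g = h :=
  mul_inv_eq_one.1 (k.inj _ (L.mul_mem hg (L.inv_mem hh))
    (by rw [k.mul _ hg _ (L.inv_mem hh), k.inv hh, e, mul_inv_cancel]))

theorem K0.cj (k : K0 a L ψ) {x : G} (hx : x ∈ Kv a (ee 0)) : K0 a L fun g => x * ψ g * x⁻¹ where
  alt := k.alt
  mul g hg h hh := by rw [k.mul g hg h hh, conj_mul]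
  inj g hg e := k.inj g hg (conj_eq_one_iff.1 e)
  mem g hg := mul_mem (mul_mem hx (k.mem g hg)) (inv_mem hx)
  onto y hy := by
    obtain ⟨g, hg, e⟩ := k.onto (x⁻¹ * y * x) (mul_mem (mul_mem (inv_mem hx) hy) hx)
    exact ⟨g, hg, by rw [e]; group⟩

theorem K0.cv (k : K0 a L ψ) (u : V4) : cv u ∈ L := k.W_le (cv_W u)

theorem comm0 {x : G} (hx : x ∈ Kv a (ee 0)) : Commute (a (ee 0)) x :=
  mem_centralizer_iff.1 hx _ (Or.inl rfl)

/-- the torus `⟨a (ee 0)⟩ × ψ ⟨cm 0, cm 1, cm 2⟩` -/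
def K0.tor (k : K0 a L ψ) (h : TJ0 a) : Multiplicative V4 →* G :=
  MonoidHom.mk' (fun u => a (ee 0) ^ (u.toAdd 0).val * ψ (KDx.cv u.toAdd)) fun u v => by
    rw [toAdd_mul, Pi.add_apply, pow_val_add (h.cube _), cv_add, k.mul _ (k.cv _) _ (k.cv _)]
    exact ((comm0 (k.mem _ (k.cv _))).pow_left _).mul_mul_mul_comm _ _

theorem K0.tor_apply (k : K0 a L ψ) (h : TJ0 a) (u : Multiplicative V4) :
    k.tor h u = a (ee 0) ^ (u.toAdd 0).val * ψ (KDx.cv u.toAdd) := rfl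

theorem K0.tor_inj (k : K0 a L ψ) (h : TJ0 a) : Function.Injective (k.tor h) :=
  (injective_iff_map_eq_one _).2 fun u e => by
    rw [k.tor_apply] at e
    have e1 : a (ee 0) ^ (u.toAdd 0).val = 1 := h.Kv_inf (by decide)
      (by rw [eq_inv_of_mul_eq_one_left e]; exact inv_mem (k.mem _ (k.cv _)))
    rw [e1, one_mul] at e
    have e0 : u.toAdd 0 = 0 := by
      rw [← h.smul] at e1
      simpa [ee] using congrFun (h.inj _ e1) 0
    exact cv_eq_one e0 (k.inj _ (k.cv _) e)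

variable [Finite G]

theorem exists_K0 (h : TJ a) : ∃ L ψ, K0 a L ψ := by
  classical
  obtain ⟨φ, hφ, hr⟩ := h.Kv_iso
  let e := MonoidHom.ofInjective hφ
  refine ⟨φ.range, fun g => if hg : g ∈ φ.range then (e.symm ⟨g, hg⟩ : G) else 1, hr, ?_, ?_, ?_, ?_⟩
  · intro g hg x hx
    rw [dif_pos hg, dif_pos hx, dif_pos (mul_mem hg hx), ← coe_mul, ← map_mul]; rfl
  · intro g hg e1
    rw [dif_pos hg, OneMemClass.coe_eq_one, MulEquiv.map_eq_one_iff] at e1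
    exact congrArg Subtype.val e1
  · intro g hg
    rw [dif_pos hg]; exact Subtype.prop _
  · intro y hy
    refine ⟨e ⟨y, hy⟩, Subtype.prop _, ?_⟩
    rw [dif_pos (Subtype.prop _)]
    exact congrArg Subtype.val (e.symm_apply_apply _)

theorem act_K (h : TJ a) {g : G} (hg : Commute g (a (ee 0))) :
    ∃ x ∈ Kv a (ee 0), ∀ y ∈ Kv a (ee 0), g * y * g⁻¹ = x * y * x⁻¹ := by
  obtain ⟨m, x, hx, rfl⟩ := h.cent (by decide) hg
  refine ⟨x, hx, fun y hy => ?_⟩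
  have := ((comm0 (mul_mem (mul_mem hx hy) (inv_mem hx))).pow_left m).eq
  calc _ = a (ee 0) ^ m * (x * y * x⁻¹) * (a (ee 0) ^ m)⁻¹ := by group
    _ = _ := by rw [this, mul_inv_cancel_right]

/-- step 1: the torus of the model goes into `J` -/
theorem step1 (h : TJ a) : ∃ L ψ, K0 a L ψ ∧ ∀ u, ψ (cv u) ∈ Jg a := by
  obtain ⟨L, ψ, k⟩ := exists_K0 h
  have : Fact (Nat.Prime 3) := ⟨by norm_num⟩
  obtain ⟨P, hP, hJ⟩ := H42.exists_sylIn (H := 𝒞[a (ee 0)]) h.isP fun x hx => by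
    obtain ⟨u, rfl⟩ := h.mem_Jg.1 hx
    exact mem_cent1.2 (h.comm _ _).eq
  have hc : Nat.card (k.tor h.toTJ0).range = 81 := by
    rw [← Nat.card_congr (MonoidHom.ofInjective (k.tor_inj h.toTJ0)).toEquiv]; simp
  obtain ⟨g, hg, hgP⟩ := hP.exists_conj (R := (k.tor h.toTJ0).range) (IsPGroup.of_card (n := 4) hc) (by
    rintro _ ⟨u, rfl⟩
    exact mem_cent1.2 (((Commute.refl _).pow_left _).mul_left (comm0 (k.mem _ (k.cv _))).symm).eq)
  have hA := h.uniq P (cj g (k.tor h.toTJ0).range) hP.isP hJ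
    (fun x hx => by obtain ⟨y, hy, rfl⟩ := mem_cj'.1 hx; exact hgP y hy)
    (by
      rw [← cj_centralizer, cj_le_cj_iff, le_cent_iff]
      rintro _ ⟨u, rfl⟩ _ ⟨v, rfl⟩
      rw [← map_mul, ← map_mul, mul_comm]) (by rw [card_cj, hc])
  obtain ⟨x, hx, e⟩ := act_K h (g := g) (mem_cent1.1 hg)
  refine ⟨L, _, k.cj hx, fun u => ?_⟩
  have h1 := hA (conj_mem_cj.2 ⟨Multiplicative.ofAdd u, rfl⟩)
  have h2 : g * a (ee 0) ^ (u 0).val * g⁻¹ ∈ Jg a := by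
    rw [((show Commute g _ from mem_cent1.1 hg).pow_right _).eq, mul_inv_cancel_right]
    exact pow_mem (h.mem_Jg.2 ⟨_, rfl⟩) _
  rw [k.tor_apply, ← conj_mul] at h1
  rw [← e _ (k.mem _ (k.cv u))]
  exact (mul_mem_cancel_left h2).1 h1

omit [Finite G] in
theorem conj_rep (h : TJ a) {u : V4} (h0 : u 0 = 0) (hu : u ≠ 0) :
    ∃ x ∈ Kv a (ee 0), x * a u * x⁻¹ = a (rep (u ⬝ᵥ u)) := by
  obtain ⟨w, hw, w', hw', e⟩ := to_rep u h0 hu
  obtain ⟨-, -, a1, a2⟩ := rl_spec w hw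
  obtain ⟨-, -, b1, b2⟩ := rl_spec w' hw'
  obtain ⟨r, hr⟩ := h.rf w a1
  obtain ⟨s, hs⟩ := h.rf w' b1
  refine ⟨r * s, mul_mem (h.rf_mem_Kv (by decide) a1 a2 hr) (h.rf_mem_Kv (by decide) b1 b2 hs), ?_⟩
  rw [← e, ← hr.2, ← hs.2]; group

/-- step 2: the frame -/
theorem step2 (h : TJ a) : ∃ L ψ, K0 a L ψ ∧ ∀ i, ψ (cm i) = a (ee i.succ) := by
  obtain ⟨L, ψ, k, hJ⟩ := step1 h
  have hT : ∀ u : V4, ∃ v, k.tor h.toTJ0 (Multiplicative.ofAdd u) = a v := fun u =>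
    h.mem_Jg.1 (mul_mem (pow_mem (h.mem_Jg.2 ⟨_, rfl⟩) _) (hJ u))
  choose f hf using hT
  let F : V4 →+ V4 := AddMonoidHom.mk' f fun u v => h.injective (by rw [h.add, ← hf, ← hf, ← hf, ← map_mul]; rfl)
  obtain ⟨θ, hθ⟩ : ∃ θ : M4, ∀ u, θ *ᵥ u = f u :=
    ⟨LinearMap.toMatrix' (F.toZModLinearMap 3), fun u => by rw [← toLin'_apply, toLin'_toMatrix']; rfl⟩
  have e : ∀ u : V4, u 0 = 0 → ψ (cv u) = a (θ *ᵥ u) := fun u hu => by
    rw [hθ, ← hf, k.tor_apply, toAdd_ofAdd, hu, ZMod.val_zero, pow_zero, one_mul]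
  have h0 : θ *ᵥ ee 0 = ee 0 := h.injective (by
    have : cv (ee 0) = 1 := by simp [cv, ee]
    rw [hθ, ← hf, k.tor_apply, toAdd_ofAdd, this, k.one, mul_one]
    exact pow_one _)
  obtain ⟨b, hb⟩ := h.rf (ee 0) (by decide)
  have h1 : ∀ u : V4, u 0 = 0 → (θ *ᵥ u) 0 = 0 := fun u hu => by
    have := (h.mem_Kv (by decide) hb).1 (k.mem _ (k.cv u))
    rw [e u hu] at this
    simpa [ee] using h.rf_fix (by decide) hb this.2.symm
  have hne : ∀ u : V4, u 0 = 0 → u ≠ 0 → θ *ᵥ u ≠ 0 := fun u hu hu' e' =>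
    hu' (cv_eq_one hu (k.inj _ (k.cv u) (by rw [e u hu, e', h.zero])))
  have hθ1 : θᵀ * θ = 1 := iso_of h0 h1 fun u v hu hv u1 v1 q => by
    obtain ⟨x, hx, ex⟩ := conj_rep h (h1 u hu) (hne u hu u1)
    obtain ⟨y, hy, ey⟩ := conj_rep h (h1 v hv) (hne v hv v1)
    obtain ⟨g, hg, eg⟩ := k.onto (y⁻¹ * x) (mul_mem (inv_mem hy) hx)
    have : g * cv u * g⁻¹ = cv v := k.injOn (mul_mem (mul_mem hg (k.cv u)) (inv_mem hg)) (k.cv v) (by
      rw [k.mul _ (mul_mem hg (k.cv u)) _ (inv_mem hg), k.mul _ hg _ (k.cv u), k.inv hg, eg, e u hu, e v hv]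
      rw [q, ← ey] at ex
      calc _ = y⁻¹ * (x * a (θ *ᵥ u) * x⁻¹) * y := by group
        _ = _ := by rw [ex]; group)
    exact (fF_eq u1 (by rw [← fx_cv u hu, ← fx_cv v hv, ← this, fx_conj])).1
  obtain ⟨n, -, hn⟩ := h.iso_gen h.hasW_norm hθ1
  obtain ⟨x, hx, ex⟩ := act_K h (g := n) (by
    have := hn (ee 0)
    rw [h0] at this
    exact mul_inv_eq_iff_eq_mul.1 this)
  refine ⟨L, _, k.cj (inv_mem hx), fun i => ?_⟩
  have i0 : ee i.succ 0 = 0 := by revert i; decide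
  rw [← cv_ee, e _ i0, ← hn, ex _ (h.a_mem_Kv (by revert i; decide))]
  group

end KDx

open KDx

variable {G : Type*} [Group G] [Finite G] {a : V4 → G}

/-- coordinates on `Kv a (ee 0)` -/
theorem TJ.exists_KD (h : TJ a) (r : Fin 3 → G) (hr : ∀ i, Rf a (ee i.succ) (r i)) : ∃ L ψ, KD a r L ψ := by
  obtain ⟨L, ψ, k, hc⟩ := step2 h
  have k' : KD a (fun i => ψ (xm i)) L ψ := ⟨k.alt, k.mul, k.inj, k.mem, k.onto, hc, fun _ => rfl⟩
  have hv : ∀ i : Fin 3, ee i.succ ⬝ᵥ ee i.succ ≠ 0 := by decide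
  have hx : ∀ i, Rf a (ee i.succ) (ψ (xm i)) := fun i =>
    k'.rf h.toTJ0 (k.W_le (xm_W i)) (tv_sq _) (by revert i; decide) (hv i) fun j => by
      rw [xm_cm]
      split_ifs with e
      · rw [k.inv (k.W_le (cm_W j)), hc, e, sv_self (hv j), h.neg]
      · rw [hc, sv_perp (by revert e i j; decide)]
  choose m hm using fun i => h.rf_uniq (hv i) (hx i) (hr i)
  let u : V4 := ![0, m 0, m 1, m 2]
  have hu : a u ∈ Kv a (ee 0) := h.a_mem_Kv (by simp [u, ee])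
  have k2 := k.cj hu
  refine ⟨L, _, k2.alt, k2.mul, k2.inj, k2.mem, k2.onto, fun i => ?_, fun i => ?_⟩
  · rw [hc, (h.comm _ _).eq, mul_inv_cancel_right]
  · have e : u = (m i : ZMod 3) • ee i.succ + (u - (m i : ZMod 3) • ee i.succ) := by abel
    have c := (hx i).comm_a (u := u - (m i : ZMod 3) • ee i.succ) (by
      have : u i.succ = m i := by fin_cases i <;> rfl
      rw [ee, dotProduct_single_one, Pi.sub_apply, this]; simp)
    rw [(hm i).2, e, h.add, ← h.pow, mul_assoc _ _ (ψ _), ← c.eq]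
    group

theorem TJ.rf_of_cent (h : TJ a) {t : G} (t2 : t * t = 1) (t1 : t ≠ 1) (ht : ∀ k ∈ Kv a (ee 0), Commute t k) :
    Rf a (ee 0) t := by
  let θ : M4 := !![0, 1, 0, 0; 1, 0, 0, 0; 0, 0, 1, 0; 0, 0, 0, 1]
  have hθ : Sim θ := Or.inl (by decide +kernel)
  have e0 : θ *ᵥ ee 0 = ee 1 := by decide +kernel
  have e1 : θ *ᵥ ee 1 = ee 0 := by decide +kernel
  have e2 : θ *ᵥ ee 2 = ee 2 := by decide +kernel
  have e3 : θ *ᵥ ee 3 = ee 3 := by decide +kernel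
  obtain ⟨b, hb⟩ := h.rf (ee 0) (by decide)
  obtain ⟨r1, h1⟩ := h.rf (ee 1) (by decide)
  obtain ⟨r2, h2⟩ := h.rf (ee 2) (by decide)
  obtain ⟨r3, h3⟩ := h.rf (ee 3) (by decide)
  have hb' : Rf (F42.tw a θ) (ee 1) b := by rw [Rf_tw hθ, e1]; exact hb
  obtain ⟨L, ψ, k⟩ := (h.tw hθ).exists_KD ![b, r2, r3] fun i => by
    fin_cases i
    · exact hb'
    · exact (Rf_tw hθ).2 (e2.symm ▸ h2)
    · exact (Rf_tw hθ).2 (e3.symm ▸ h3)
  have c : ∀ i : Fin 4, i ≠ 0 → Commute t (a (ee i)) := fun i hi => ht _ (h.a_mem_Kv (by revert i; decide))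
  have := k.rf_of_cent (h.tw hθ).toTJ0 hb' (t := t) (by
      rw [Kv_tw hθ, e0, h.mem_Kv (by decide) h1]
      exact ⟨c 1 (by decide), ht _ (h.rf_mem_Kv (by decide) (by decide) (by decide) h1)⟩) t2 t1
    (by rw [F42.tw, e2]; exact c 2 (by decide)) (ht _ (h.rf_mem_Kv (by decide) (by decide) (by decide) h2))
    (by rw [F42.tw, e3]; exact c 3 (by decide)) (ht _ (h.rf_mem_Kv (by decide) (by decide) (by decide) h3))
  rwa [Rf_tw hθ, e1] at this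

end Cfsg.Agent.F42
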